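import Cfsg.Agent.Components.LBalanceTwo.Balance
import Cfsg.Agent.Components.PCompCentralizer
import Cfsg.Agent.Components.PxQ
import Cfsg.Agent.Coprime.Generation

/-!
A criterion for the normal closure of a standard subgroup to be semisimple.
-/

set_option linter.style.haveILetI false
set_option linter.unusedSectionVars false

namespace Cfsg.Lib.StdSemisimple

open Subgroup Cfsg.Lib.Components
open scoped commutatorElement

universe u

variable {G : Type u} [Group G]

theorem commutatorElement_mul_of_commute {e e' b b' : G} (h1 : Commute b e) (h2 : Commute b e')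
    (h3 : Commute b b') (h4 : Commute b' e) (h5 : Commute b' e') : ⁅e * b, e' * b'⁆ = ⁅e, e'⁆ := by
  have k : ⁅e * b, e' * b'⁆ * (e' * b' * (e * b)) = e * b * (e' * b') := by
    rw [commutatorElement_def]
    group
  have k' : ⁅e, e'⁆ * (e' * b' * (e * b)) = e * b * (e' * b') := by
    rw [show e' * b' * (e * b) = e' * e * (b' * b) by rw [mul_assoc, ← mul_assoc b', h4.eq]; group,
      show e * b * (e' * b') = e * e' * (b * b') by rw [mul_assoc, ← mul_assoc b, h2.eq]; group,
      h3.eq, commutatorElement_def]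
    group
  exact mul_right_cancel (k.trans k'.symm)

/-- a perfect subgroup of a central product of `A` and `B` which centralizes `B` lies in `A` -/
theorem perfect_le_left {X A B : Subgroup G} (hX : ⁅X, X⁆ = X) (hle : X ≤ A ⊔ B) (hAB : ⁅A, B⁆ = ⊥)
    (hXB : ⁅X, B⁆ = ⊥) : X ≤ A := by
  have hn : A ≤ normalizer (B : Set G) :=
    (commutator_eq_bot_iff_le_centralizer.1 hAB).trans (centralizer_le_normalizer _)
  rw [← hX, commutator_le]
  intro x hx y hy
  obtain ⟨a, ha, b, hb, rfl⟩ := (Cfsg.Lib.Coprime.mem_sup_of_le_normalizer' hn).mp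
    (show x ∈ B ⊔ A from sup_comm A B ▸ hle hx)
  obtain ⟨a', ha', b', hb', rfl⟩ := (Cfsg.Lib.Coprime.mem_sup_of_le_normalizer' hn).mp
    (show y ∈ B ⊔ A from sup_comm A B ▸ hle hy)
  have hc : ∀ c ∈ A, ∀ d ∈ B, Commute d c := fun c hc d hd =>
    mem_centralizer_iff.1 (commutator_eq_bot_iff_le_centralizer.1 hAB hc) d hd
  have hby : Commute b (a' * b') :=
    mem_centralizer_iff.1 (commutator_eq_bot_iff_le_centralizer.1 hXB hy) b hb
  have hbb : Commute b b' := by
    have h := (hc a' ha' b hb).inv_right.mul_right hby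
    rwa [← mul_assoc, inv_mul_cancel, one_mul] at h
  rw [commutatorElement_mul_of_commute (hc a ha b hb) (hc a' ha' b hb) hbb (hc a ha b' hb') (hc a' ha' b' hb')]
  exact mul_mem (mul_mem (mul_mem ha ha') (inv_mem ha)) (inv_mem ha')

theorem not_isCyclic_of_klein {K : Type*} [Group K] [Finite K] {u v : K} (hu : orderOf u = 2)
    (hv : orderOf v = 2) (hne : u ≠ v) : ¬ IsCyclic K := by
  intro h
  classical
  haveI := Fintype.ofFinite K
  have h3 : ({1, u, v} : Finset K) ⊆ Finset.univ.filter fun x => x ^ 2 = 1 := by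
    intro x hx
    simp only [Finset.mem_insert, Finset.mem_singleton] at hx
    rw [Finset.mem_filter]
    refine ⟨Finset.mem_univ _, ?_⟩
    rcases hx with rfl | rfl | rfl
    · exact one_pow 2
    · exact hu ▸ pow_orderOf_eq_one _
    · exact hv ▸ pow_orderOf_eq_one _
  have hu1 : u ≠ 1 := fun e => by rw [e, orderOf_one] at hu; omega
  have hv1 : v ≠ 1 := fun e => by rw [e, orderOf_one] at hv; omega
  have h4 := (Finset.card_le_card h3).trans (IsCyclic.card_pow_eq_one_le (α := K) (by norm_num : 0 < 2))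
  simp [hne, hu1.symm, hv1.symm] at h4

variable [Finite G]

theorem involution_unique {C : Subgroup G} (hcyc : ∀ R : Sylow 2 ↥C, IsCyclic ↥(R : Subgroup ↥C))
    {K : Subgroup G} (hKC : K ≤ C) (hK : IsPGroup 2 K) {u v : G} (hu : u ∈ K) (hv : v ∈ K)
    (hu2 : orderOf u = 2) (hv2 : orderOf v = 2) : u = v := by
  obtain ⟨S, hS⟩ := (hK.of_equiv (subgroupOfEquivOfLe hKC).symm).exists_le_sylow
  by_contra hne
  refine not_isCyclic_of_klein (K := ↥(S : Subgroup ↥C))
    (u := ⟨⟨u, hKC hu⟩, hS (mem_subgroupOf.2 hu)⟩) (v := ⟨⟨v, hKC hv⟩, hS (mem_subgroupOf.2 hv)⟩)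
    ?_ ?_ (fun h => hne (congrArg (fun z : ↥(S : Subgroup ↥C) => ((z : ↥C) : G)) h)) (hcyc S)
  · rw [← Subgroup.orderOf_coe, ← Subgroup.orderOf_coe]; exact hu2
  · rw [← Subgroup.orderOf_coe, ← Subgroup.orderOf_coe]; exact hv2

/-- the main theorem -/
theorem main (A : Subgroup G) (hA : Cfsg.IsStandardSubgroup A)
    (hcyc : ∀ R : Sylow 2 ↥(centralizer (A : Set G)), IsCyclic ↥(R : Subgroup ↥(centralizer (A : Set G))))
    (t : G) (ht : orderOf t = 2) (htA : t ∈ centralizer (A : Set G))
    (R : Subgroup G) (hRX : R ≤ normalClosure (A : Set G))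
    (hc1 : ⁅R, zpowers t⁆ ≠ ⊥) (hc2 : ⁅R, zpowers t⁆ ≤ A) :
    Cfsg.layer ↥(normalClosure (A : Set G)) = ⊤ ∧
      Odd (Nat.card ↥(center ↥(normalClosure (A : Set G)))) := by
  classical
  haveI : Fact (Nat.Prime 2) := ⟨Nat.prime_two⟩
  obtain ⟨hqs, hTE, -, hNN⟩ := hA
  set X := normalClosure (A : Set G) with hX
  have hAX : A ≤ X := le_normalClosure
  haveI hXn : X.Normal := normalClosure_normal
  have hAp : ⁅A, A⁆ = A := by
    have h2 := congrArg (Subgroup.map A.subtype) (qs_commutator_top hqs)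
    rwa [map_commutator, ← MonoidHom.range_eq_map, range_subtype] at h2
  -- centralizers of involutions of `C(A)` normalize `A`
  have hfix : ∀ g : G, g * t = t * g → g ∈ normalizer (A : Set G) := by
    intro g hg
    rw [hNN]
    by_contra hgn
    have hodd := hTE.2 g hgn
    have hmem : t ∈ centralizer (A : Set G) ⊓ (centralizer (A : Set G)).map (MulAut.conj g).toMonoidHom :=
      ⟨htA, t, htA, by show g * t * g⁻¹ = t; rw [hg, mul_inv_cancel_right]⟩
    have h2 := Subgroup.orderOf_dvd_natCard _ hmem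
    rw [ht] at h2
    exact Nat.not_even_iff_odd.2 hodd (even_iff_two_dvd.2 h2)
  have htt : t * t = 1 := by rw [← pow_two, ← ht]; exact pow_orderOf_eq_one t
  have htinv : t⁻¹ = t := inv_eq_of_mul_eq_one_right htt
  have htc : ∀ a ∈ A, a * t = t * a := fun a ha => mem_centralizer_iff.1 htA a ha
  -- the involution `s = [r, t]` of `A`
  obtain ⟨r, hr, hs1⟩ : ∃ r ∈ R, ⁅r, t⁆ ≠ 1 := by
    by_contra h
    push Not at h
    apply hc1
    rw [eq_bot_iff, commutator_le]
    rintro r hr _ ⟨k, rfl⟩
    rw [mem_bot, commutatorElement_eq_one_iff_mul_comm]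
    exact ((show Commute r t from commutatorElement_eq_one_iff_mul_comm.1 (h r hr)).zpow_right k).eq
  have hsA : ⁅r, t⁆ ∈ A := hc2 (commutator_mem_commutator hr (mem_zpowers t))
  set s := ⁅r, t⁆ with hs
  have hst : r * t * r⁻¹ = s * t := by rw [hs, commutatorElement_def, htinv, mul_assoc _ t t, htt, mul_one]
  have hscomm : Commute s t := htc s hsA
  have hss : s * s = 1 := by
    have h1 : (r * t * r⁻¹) * (r * t * r⁻¹) = 1 := by
      rw [show r * t * r⁻¹ * (r * t * r⁻¹) = r * (t * t) * r⁻¹ by group, htt, mul_one, mul_inv_cancel]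
    rwa [hst, hscomm.symm.mul_mul_mul_comm, htt, mul_one] at h1
  have hs2 : orderOf s = 2 := orderOf_eq_prime (by rw [pow_two, hss]) hs1
  have hsC : s ∉ centralizer (A : Set G) := by
    intro hsC
    have hK : IsPGroup 2 ↥(zpowers s ⊔ zpowers t) := by
      refine IsPGroup.to_sup_of_normal_left' ?_ ?_ ?_
      · rw [IsPGroup.iff_card]; exact ⟨1, by rw [Nat.card_zpowers, hs2, pow_one]⟩
      · rw [IsPGroup.iff_card]; exact ⟨1, by rw [Nat.card_zpowers, ht, pow_one]⟩
      · rw [zpowers_le]
        refine centralizer_le_normalizer _ (mem_centralizer_iff.2 ?_)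
        rintro _ ⟨k, rfl⟩
        exact (hscomm.zpow_left k).eq
    have h := involution_unique hcyc (sup_le (zpowers_le.2 hsC) (zpowers_le.2 htA)) hK
      (mem_sup_left (mem_zpowers s)) (mem_sup_right (mem_zpowers t)) hs2 ht
    have h1 : r * t * r⁻¹ = 1 := by rw [hst, h, htt]
    rw [mul_inv_eq_one] at h1
    have ht1 : t = 1 := mul_eq_left.1 h1
    rw [ht1, orderOf_one] at ht
    omega
  -- `A` centralizes the fixed points of `t` on a normal subgroup not containing it
  have hfixC : ∀ N : Subgroup G, N.Normal → ¬ A ≤ N →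
      A ≤ centralizer ((N ⊓ centralizer ({t} : Set G) : Subgroup G) : Set G) := by
    intro N hN hAN
    set D := N ⊓ centralizer ({t} : Set G)
    have hDA : D ≤ normalizer (A : Set G) := fun g hg =>
      hfix g (mem_centralizer_singleton_iff.1 hg.2)
    have h1 : ⁅A, D⁆ ≤ A ⊓ N := le_inf (le_normalizer_iff_commutator_le_left.mp hDA)
      ((commutator_mono le_rfl inf_le_left).trans (commutator_le_right A N))
    haveI : (N.subgroupOf A).Normal := inferInstance
    have h2 : ⁅A ⊓ N, A⁆ = ⊥ := by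
      rcases qs_subnormal_eq_top_or_le_center hqs (inferInstance : (N.subgroupOf A).Normal).isSubnormal with h | h
      · exact absurd (subgroupOf_eq_top.1 h) hAN
      · rw [eq_bot_iff, commutator_le]
        intro a ha b hb
        rw [mem_bot, commutatorElement_eq_one_iff_mul_comm]
        exact (congrArg Subtype.val (mem_center_iff.1 (h (mem_subgroupOf.2 (show ((⟨a, ha.1⟩ : A) : G) ∈ N from ha.2))) ⟨b, hb⟩)).symm
    exact commutator_eq_bot_iff_le_centralizer.1
      (commutator_eq_bot_of_perfect hAp (le_bot_iff.1 ((commutator_mono h1 le_rfl).trans h2.le)))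
  -- the conjugate `t' = s t` has the same fixed points on a normal subgroup
  have hfix' : ∀ N : Subgroup G, N.Normal → ¬ A ≤ N → ∀ x ∈ N, Commute x (s * t) → Commute x s := by
    intro N hN hAN x hx hxst
    set D := N ⊓ centralizer ({t} : Set G) with hD
    set D' := N ⊓ centralizer ({s * t} : Set G) with hD'
    have hle : D ≤ D' := fun y hy => ⟨hy.1, mem_centralizer_singleton_iff.2
      ((Commute.mul_right (mem_centralizer_iff.1 (hfixC N hN hAN hsA) y hy)
        (mem_centralizer_singleton_iff.1 hy.2 : Commute y t)).eq)⟩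
    have hconj : D' ≤ D.map (MulAut.conj r).toMonoidHom := by
      intro y hy
      refine ⟨r⁻¹ * y * r, ⟨?_, mem_centralizer_singleton_iff.2 ?_⟩, ?_⟩
      · simpa using hN.conj_mem y hy.1 r⁻¹
      · have h : y * (r * t * r⁻¹) = (r * t * r⁻¹) * y := by
          rw [hst]; exact mem_centralizer_singleton_iff.1 hy.2
        calc r⁻¹ * y * r * t = r⁻¹ * (y * (r * t * r⁻¹)) * r := by group
          _ = r⁻¹ * (r * t * r⁻¹ * y) * r := by rw [h]
          _ = t * (r⁻¹ * y * r) := by group
      · show r * (r⁻¹ * y * r) * r⁻¹ = y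
        group
    have heq : D = D' := eq_of_le_of_card_ge hle
      ((Nat.le_of_dvd Nat.card_pos (card_dvd_of_le hconj)).trans
        (card_map_of_injective (MulAut.conj r).injective).le)
    have hxD : x ∈ D := heq ▸ (⟨hx, mem_centralizer_singleton_iff.2 hxst.eq⟩ : x ∈ D')
    exact mem_centralizer_iff.1 (hfixC N hN hAN hsA) x hxD
  -- `A` centralizes `O(G)`
  set O := Cfsg.pPrimeCore 2 G with hO
  haveI hOn : O.Normal := pPrimeCore_normal' 2
  have hOcop : (Nat.card O).Coprime 2 := coprime_card_pPrimeCore 2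
  have hAO : ¬ A ≤ O := by
    intro h
    have := Subgroup.orderOf_dvd_natCard O (h hsA)
    rw [hs2] at this
    exact Nat.prime_two.coprime_iff_not_dvd.1 hOcop.symm this
  have hsO : ∀ x ∈ O, Commute x s := by
    let V : Subgroup G :=
      { carrier := {g | g = 1 ∨ g = s ∨ g = t ∨ g = s * t}
        one_mem' := Or.inl rfl
        mul_mem' := by
          have e1 : t * s = s * t := hscomm.eq.symm
          have e2 : s * (s * t) = t := by rw [← mul_assoc, hss, one_mul]
          have e3 : t * (s * t) = s := by rw [← mul_assoc, e1, mul_assoc, htt, mul_one]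
          have e4 : s * t * s = t := by rw [mul_assoc, e1, e2]
          have e5 : s * t * t = s := by rw [mul_assoc, htt, mul_one]
          have e6 : s * t * (s * t) = 1 := by rw [mul_assoc, e3, hss]
          rintro a b (rfl | rfl | rfl | rfl) (rfl | rfl | rfl | rfl) <;>
            simp [hss, htt, e1, e2, e3, e4, e5, e6]
        inv_mem' := by
          rintro a (rfl | rfl | rfl | rfl)
          · exact Or.inl inv_one
          · exact Or.inr (Or.inl (inv_eq_of_mul_eq_one_right hss))
          · exact Or.inr (Or.inr (Or.inl htinv))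
          · exact Or.inr (Or.inr (Or.inr (by
              rw [mul_inv_rev, htinv, inv_eq_of_mul_eq_one_right hss, hscomm.eq]))) }
    have hV2 : ∀ a ∈ V, a * a = 1 := by
      rintro a (rfl | rfl | rfl | rfl)
      · exact one_mul 1
      · exact hss
      · exact htt
      · rw [hscomm.symm.mul_mul_mul_comm, hss, htt, one_mul]
    haveI : IsMulCommutative V := ⟨⟨fun a b => by
      have key : ∀ c : V, c⁻¹ = c := fun c => inv_eq_of_mul_eq_one_right (Subtype.ext (hV2 c c.2))
      calc a * b = (a * b)⁻¹ := (key _).symm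
        _ = b * a := by rw [mul_inv_rev, key, key]⟩⟩
    have hVp : IsPGroup 2 V := fun a => ⟨1, Subtype.ext (by
      rw [pow_one, SubgroupClass.coe_pow, pow_two, OneMemClass.coe_one]; exact hV2 a a.2)⟩
    have hVnc : ¬ IsCyclic V := by
      refine not_isCyclic_of_klein (u := ⟨s, Or.inr (Or.inl rfl)⟩) (v := ⟨t, Or.inr (Or.inr (Or.inl rfl))⟩) ?_ ?_ ?_
      · rw [← Subgroup.orderOf_coe]; exact hs2
      · rw [← Subgroup.orderOf_coe]; exact ht
      · intro h
        exact hsC (by rw [show s = t from congrArg Subtype.val h]; exact htA)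
    have hcop : (Nat.card V).Coprime (Nat.card O) := by
      obtain ⟨k, hk⟩ := IsPGroup.iff_card.1 hVp
      rw [hk]; exact Nat.Coprime.pow_left _ hOcop.symm
    have hj := Cfsg.Lib.Coprime.centralizerJoin_eq hVnc (le_normalizer_of_normal (K := V) (H := O)) hcop
    have hjle : Cfsg.Lib.Coprime.centralizerJoin V O ≤ centralizer ({s} : Set G) := by
      refine iSup₂_le fun a ha => ?_
      obtain ⟨ha', ha1⟩ := ha
      intro y hy0
      obtain ⟨hy, hya⟩ := mem_inf.1 hy0
      rw [mem_centralizer_singleton_iff] at hya ⊢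
      rcases ha' with rfl | rfl | rfl | rfl
      · exact absurd rfl ha1
      · exact hya
      · exact (mem_centralizer_iff.1 (hfixC O hOn hAO hsA) y ⟨hy, mem_centralizer_singleton_iff.2 hya⟩)
      · exact (hfix' O hOn hAO y hy hya).eq
    intro x hx
    exact mem_centralizer_singleton_iff.1 (hjle (hj.ge hx))
  have hXO : X ≤ centralizer (O : Set G) := by
    haveI : (centralizer (O : Set G)).Normal := inferInstance
    refine normalClosure_le_normal ?_
    rcases qs_subnormal_eq_top_or_le_center hqs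
      (inferInstance : ((centralizer (O : Set G)).subgroupOf A).Normal).isSubnormal with h | h
    · exact subgroupOf_eq_top.1 h
    · refine absurd (mem_centralizer_iff.2 fun a ha => ?_) hsC
      exact congrArg Subtype.val (mem_center_iff.1 (h (mem_subgroupOf.2
        (show ((⟨s, hsA⟩ : A) : G) ∈ centralizer (O : Set G) from mem_centralizer_iff.2 fun x hx => (hsO x hx).eq)))
        ⟨a, ha⟩)
  -- `O_2(G) = 1`
  have hW : Cfsg.pCore 2 G = ⊥ := by
    by_contra hne
    set W := Cfsg.pCore 2 G with hWdef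
    have hWp : IsPGroup 2 W := isPGroup_pCore 2
    have hAW : ¬ A ≤ W := fun h => qs_not_isSolvable hqs (by
      haveI := (hWp.to_le h).isNilpotent
      infer_instance)
    have htP : IsPGroup 2 (zpowers t) := by
      rw [IsPGroup.iff_card]; exact ⟨1, by rw [Nat.card_zpowers, ht, pow_one]⟩
    have hAWc : A ≤ centralizer (W : Set G) := by
      refine perfect_le_of_pPrime_elements (p := 2) hAp le_normalizer_of_normal fun x hx ho => ?_
      have hxP : x ∈ centralizer (zpowers t : Set G) := by
        rw [mem_centralizer_iff]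
        rintro _ ⟨k, rfl⟩
        exact ((show Commute x t from htc x hx).zpow_right k).symm.eq
      have h := pxq_element ho htP hxP W hWp le_normalizer_of_normal
        ((le_normalizer_of_normal (K := A) (H := W)) hx) ?_
      · exact mem_centralizer_iff.2 fun w hw => mem_centralizer_singleton_iff.1 (h hw)
      · rintro w ⟨hw, hwt⟩
        rw [mem_centralizer_singleton_iff]
        exact mem_centralizer_iff.1 (hfixC W inferInstance hAW hx) w
          ⟨hw, mem_centralizer_singleton_iff.2 (mem_centralizer_iff.1 hwt t (mem_zpowers t)).symm⟩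
    have hWC : W ≤ centralizer (A : Set G) := le_centralizer_iff.1 hAWc
    have hXW : X ≤ centralizer (W : Set G) := normalClosure_le_normal hAWc
    have h2 : 2 ∣ Nat.card W := by
      obtain ⟨k, hk⟩ := IsPGroup.iff_card.1 hWp
      rcases Nat.eq_zero_or_pos k with rfl | hk0
      · exact absurd (eq_bot_of_card_eq _ (by simpa using hk)) hne
      · rw [hk]; exact dvd_pow_self 2 hk0.ne'
    obtain ⟨w, hw⟩ := exists_prime_orderOf_dvd_card' 2 h2
    have hw' : orderOf (w : G) = 2 := by rw [Subgroup.orderOf_coe]; exact hw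
    have hwt : (w : G) = t := involution_unique hcyc (sup_le hWC (zpowers_le.2 htA))
      (hWp.to_sup_of_normal_left' htP le_normalizer_of_normal)
      (mem_sup_left w.2) (mem_sup_right (mem_zpowers t)) hw' ht
    apply hs1
    rw [hs, commutatorElement_eq_one_iff_mul_comm, ← hwt]
    exact (mem_centralizer_iff.1 (hXW (hRX hr)) w w.2).symm
  -- L-balance
  set Ct := centralizer (zpowers t : Set G) with hCt
  have hACt : A ≤ Ct := by
    intro a ha
    rw [hCt, mem_centralizer_iff]
    rintro _ ⟨k, rfl⟩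
    exact ((show Commute a t from htc a ha).zpow_right k).symm.eq
  have hCtN : Ct ≤ normalizer (A : Set G) := fun g hg =>
    hfix g (mem_centralizer_iff.1 hg t (mem_zpowers t)).symm
  haveI : (A.subgroupOf Ct).Normal := normal_subgroupOf_of_le_normalizer hCtN
  have hAt : Cfsg.IsComponent (A.subgroupOf Ct) :=
    ⟨Normal.isSubnormal inferInstance, qs_congr' (subgroupOfEquivOfLe hACt).symm hqs⟩
  have hAtP : Cfsg.IsPComponent 2 (A.subgroupOf Ct) := by
    haveI : (Cfsg.pPrimeCore 2 ↥Ct).Normal := pPrimeCore_normal' 2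
    set q := QuotientGroup.mk' (Cfsg.pPrimeCore 2 ↥Ct)
    have hne : (A.subgroupOf Ct).map q ≠ ⊥ := by
      rw [Ne, Subgroup.map_eq_bot_iff, QuotientGroup.ker_mk']
      intro h
      have := Subgroup.orderOf_dvd_natCard _ (h (show (⟨s, hACt hsA⟩ : Ct) ∈ A.subgroupOf Ct from hsA))
      rw [← Subgroup.orderOf_coe, hs2] at this
      exact Nat.prime_two.coprime_iff_not_dvd.1 (coprime_card_pPrimeCore 2).symm this
    refine ⟨hAt.1, (comp_map_surjective hAt q (QuotientGroup.mk'_surjective _)).resolve_left hne,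
      fun H hH hHA himg => ?_⟩
    rcases qs_subnormal_eq_top_or_le_center hAt.2 (hH.subgroupOf (K := A.subgroupOf Ct)) with h | h
    · exact le_antisymm hHA (subgroupOf_eq_top.1 h)
    · exfalso
      apply hne
      rw [← comp_perfect hAt, map_commutator]
      have : ⁅H, H⁆ = ⊥ := commutator_map_subtype_eq_bot hHA hHA (by
        rw [← le_bot_iff, ← commutator_center_right (center ↥(A.subgroupOf Ct))]
        exact commutator_mono h h)
      rw [← himg, ← map_commutator, this, Subgroup.map_bot]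
  have hAL : A ≤ Cfsg.pLayer 2 G := by
    refine le_trans ?_ (Cfsg.Lib.LBalTwo.pLayer_centralizer_le (zpowers t) (by
      rw [IsPGroup.iff_card]; exact ⟨1, by rw [Nat.card_zpowers, ht, pow_one]⟩))
    intro a ha
    have h : A.subgroupOf Ct ≤ Cfsg.pLayer 2 ↥Ct := le_sSup hAtP
    exact ⟨⟨a, hACt ha⟩, h (mem_subgroupOf.2 ha), rfl⟩
  have hXL : X ≤ Cfsg.pLayer 2 G := by
    haveI : (Cfsg.pLayer 2 G).Normal := pLayer_normal
    exact normalClosure_le_normal hAL
  have hXp : ⁅X, X⁆ = X := by
    refine le_antisymm (commutator_le_self X) (normalClosure_le_normal ?_)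
    rw [← hAp]
    exact commutator_mono hAX hAX
  -- into the layer
  set E₁ := sSup {K : Subgroup G | Cfsg.IsPComponent 2 K ∧ ⁅K, O⁆ = ⊥} with hE₁
  set E₂ := sSup {K : Subgroup G | Cfsg.IsPComponent 2 K ∧ ⁅K, O⁆ ≠ ⊥} with hE₂
  have hL12 : Cfsg.pLayer 2 G ≤ E₁ ⊔ E₂ := sSup_le fun K hK => by
    by_cases h : ⁅K, O⁆ = ⊥
    · exact le_sup_of_le_left (le_sSup ⟨hK, h⟩)
    · exact le_sup_of_le_right (le_sSup ⟨hK, h⟩)
  set q := QuotientGroup.mk' O with hq
  have h12 : ⁅E₁.map q, E₂.map q⁆ = ⊥ := by
    rw [← map_commutator, Subgroup.map_eq_bot_iff, hq, QuotientGroup.ker_mk']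
    rw [← QuotientGroup.ker_mk' O, ← Subgroup.map_eq_bot_iff, map_commutator,
      commutator_eq_bot_iff_le_centralizer, map_le_iff_le_comap]
    refine sSup_le fun K hK => ?_
    rw [← map_le_iff_le_comap, le_centralizer_iff, map_le_iff_le_comap]
    refine sSup_le fun K' hK' => ?_
    rw [← map_le_iff_le_comap, le_centralizer_iff, ← commutator_eq_bot_iff_le_centralizer, ← map_commutator,
      Subgroup.map_eq_bot_iff, QuotientGroup.ker_mk']
    exact pcomp_commute hK.1 hK'.1 fun e => hK'.2 (e ▸ hK.2)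
  have hX2 : ⁅X.map q, E₂.map q⁆ = ⊥ := by
    rw [commutator_comm, commutator_eq_bot_iff_le_centralizer, map_le_iff_le_comap]
    refine sSup_le fun K hK => ?_
    rw [← map_le_iff_le_comap, ← commutator_eq_bot_iff_le_centralizer, ← map_commutator,
      Subgroup.map_eq_bot_iff, hq, QuotientGroup.ker_mk']
    refine (pcomp_le_or_commute hK.1 hXn.isSubnormal).resolve_left fun h => hK.2 ?_
    exact commutator_eq_bot_iff_le_centralizer.2 (h.trans hXO)
  have hXE1O : X ≤ E₁ ⊔ O := by
    have h := perfect_le_left (X := X.map q) (A := E₁.map q) (B := E₂.map q)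
      (by rw [← map_commutator, hXp]) (by rw [← Subgroup.map_sup]; exact map_mono (hXL.trans hL12)) h12 hX2
    rw [map_le_iff_le_comap, hq, comap_map_eq, QuotientGroup.ker_mk'] at h
    exact h
  have hE1O : ⁅E₁, O⁆ = ⊥ := by
    rw [commutator_eq_bot_iff_le_centralizer]
    exact sSup_le fun K hK => commutator_eq_bot_iff_le_centralizer.1 hK.2
  have hXE1 : X ≤ E₁ := perfect_le_left hXp hXE1O hE1O (commutator_eq_bot_iff_le_centralizer.2 hXO)
  have hXlayer : X ≤ Cfsg.layer G := hXE1.trans (sSup_le fun K hK =>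
    comp_le_layer ((pcomp_isComponent_iff hK.1).2 hK.2))
  -- the components inside
  set P₁ := sSup {K : Subgroup G | Cfsg.IsComponent K ∧ K ≤ X} with hP₁
  set P₂ := sSup {K : Subgroup G | Cfsg.IsComponent K ∧ ¬ K ≤ X} with hP₂
  have hXP : X ≤ P₁ := by
    refine perfect_le_left (B := P₂) hXp (hXlayer.trans (sSup_le fun K hK => ?_)) ?_ ?_
    · by_cases h : K ≤ X
      · exact le_sup_of_le_left (le_sSup (show Cfsg.IsComponent K ∧ K ≤ X from ⟨hK, h⟩))
      · exact le_sup_of_le_right (le_sSup (show Cfsg.IsComponent K ∧ ¬ K ≤ X from ⟨hK, h⟩))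
    · rw [commutator_eq_bot_iff_le_centralizer]
      refine sSup_le fun K hK => ?_
      rw [le_centralizer_iff]
      refine sSup_le fun K' hK' => commutator_eq_bot_iff_le_centralizer.1 (comp_commute hK'.1 hK.1 ?_)
      exact fun e => hK'.2 (e ▸ hK.2)
    · rw [commutator_comm, commutator_eq_bot_iff_le_centralizer]
      exact sSup_le fun K hK =>
        commutator_eq_bot_iff_le_centralizer.1 (comp_commute_of_not_le hK.1 hXn.isSubnormal hK.2)
  refine ⟨?_, ?_⟩
  · rw [eq_top_iff]
    have h : P₁ ≤ (Cfsg.layer ↥X).map X.subtype := sSup_le fun K hK => by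
      rw [← map_subgroupOf_eq_of_le hK.2]
      exact map_mono (comp_le_layer (comp_subgroupOf hK.1 hK.2))
    intro x _
    obtain ⟨y, hy, hyx⟩ := h (hXP x.2)
    exact Subtype.ext hyx ▸ hy
  · by_contra hodd
    rw [Nat.not_odd_iff_even, even_iff_two_dvd] at hodd
    obtain ⟨z, hz⟩ := exists_prime_orderOf_dvd_card' 2 hodd
    have hzx : ∀ y ∈ X, ((z : X) : G) * y = y * ((z : X) : G) := fun y hy =>
      (congrArg Subtype.val (mem_center_iff.1 z.2 ⟨y, hy⟩)).symm
    let Z : Subgroup G :=
      { carrier := {g | g ∈ X ∧ g * g = 1 ∧ ∀ y ∈ X, g * y = y * g}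
        one_mem' := ⟨X.one_mem, one_mul 1, fun y _ => by rw [one_mul, mul_one]⟩
        mul_mem' := by
          rintro a b ⟨ha, ha2, hac⟩ ⟨hb, hb2, hbc⟩
          refine ⟨X.mul_mem ha hb, ?_, fun y hy => ?_⟩
          · rw [(show Commute b a from hbc a ha).mul_mul_mul_comm, ha2, hb2, one_mul]
          · exact (Commute.mul_left (hac y hy : Commute a y) (hbc y hy : Commute b y)).eq
        inv_mem' := by
          rintro a ⟨ha, ha2, hac⟩
          rw [inv_eq_of_mul_eq_one_right ha2]
          exact ⟨ha, ha2, hac⟩ }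
    haveI : Z.Normal := ⟨fun a ⟨ha, ha2, hac⟩ g => by
      refine ⟨hXn.conj_mem a ha g, by rw [show g * a * g⁻¹ * (g * a * g⁻¹) = g * (a * a) * g⁻¹ by group, ha2, mul_one, mul_inv_cancel], fun y hy => ?_⟩
      have h := hac (g⁻¹ * y * g) (by simpa using hXn.conj_mem y hy g⁻¹)
      calc g * a * g⁻¹ * y = g * (a * (g⁻¹ * y * g)) * g⁻¹ := by group
        _ = g * (g⁻¹ * y * g * a) * g⁻¹ := by rw [h]
        _ = y * (g * a * g⁻¹) := by group⟩
    have hZ2 : IsPGroup 2 Z := fun a => ⟨1, Subtype.ext (by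
      rw [pow_one, SubgroupClass.coe_pow, pow_two, OneMemClass.coe_one]; exact a.2.2.1)⟩
    have hz2 : orderOf ((z : X) : G) = 2 := by rw [Subgroup.orderOf_coe, Subgroup.orderOf_coe]; exact hz
    have hzZ : ((z : X) : G) ∈ Z := ⟨(z : X).2, by rw [← pow_two, ← hz2]; exact pow_orderOf_eq_one _, hzx⟩
    have h := le_pCore hZ2 hzZ
    rw [hW, mem_bot] at h
    rw [h, orderOf_one] at hz2
    omega

end Cfsg.Lib.StdSemisimple
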