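import Cfsg.Agent.Components.StdSemisimple.Main

/-!
A standard subgroup whose involution of the centralizer is moved into `P C(P)` centralizes the odd core.
-/

set_option linter.style.haveILetI false
set_option linter.unusedSectionVars false

namespace Cfsg.Lib.StdSemisimple

open Subgroup Cfsg.Lib.Components
open scoped commutatorElement

universe u

variable {G : Type u} [Group G]

/-- the four subgroup of two commuting involutions -/
def fourGroup (u v : G) (hu : u * u = 1) (hv : v * v = 1) (huv : Commute u v) : Subgroup G where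
  carrier := {g | g = 1 ∨ g = u ∨ g = v ∨ g = u * v}
  one_mem' := Or.inl rfl
  mul_mem' := by
    have e1 : v * u = u * v := huv.eq.symm
    have e2 : u * (u * v) = v := by rw [← mul_assoc, hu, one_mul]
    have e3 : v * (u * v) = u := by rw [← mul_assoc, e1, mul_assoc, hv, mul_one]
    have e4 : u * v * u = v := by rw [mul_assoc, e1, e2]
    have e5 : u * v * v = u := by rw [mul_assoc, hv, mul_one]
    have e6 : u * v * (u * v) = 1 := by rw [mul_assoc, e3, hu]
    rintro a b (rfl | rfl | rfl | rfl) (rfl | rfl | rfl | rfl) <;>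
      simp [hu, hv, e1, e2, e3, e4, e5, e6]
  inv_mem' := by
    rintro a (rfl | rfl | rfl | rfl)
    · exact Or.inl inv_one
    · exact Or.inr (Or.inl (inv_eq_of_mul_eq_one_right hu))
    · exact Or.inr (Or.inr (Or.inl (inv_eq_of_mul_eq_one_right hv)))
    · exact Or.inr (Or.inr (Or.inr (by
        rw [mul_inv_rev, inv_eq_of_mul_eq_one_right hv, inv_eq_of_mul_eq_one_right hu, huv.eq])))

theorem fourGroup_sq {u v : G} {hu : u * u = 1} {hv : v * v = 1} {huv : Commute u v} :
    ∀ a ∈ fourGroup u v hu hv huv, a ^ 2 = 1 := by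
  rintro a (rfl | rfl | rfl | rfl)
  · exact one_pow 2
  · rw [pow_two, hu]
  · rw [pow_two, hv]
  · rw [pow_two, huv.symm.mul_mul_mul_comm, hu, hv, one_mul]

theorem fourGroup_comm {u v : G} {hu : u * u = 1} {hv : v * v = 1} {huv : Commute u v} :
    IsMulCommutative (fourGroup u v hu hv huv) := ⟨⟨fun a b => by
  have key : ∀ c : fourGroup u v hu hv huv, c⁻¹ = c := fun c =>
    inv_eq_of_mul_eq_one_right (Subtype.ext (by
      rw [Subgroup.coe_mul, ← pow_two, OneMemClass.coe_one]; exact fourGroup_sq (hu := hu) (hv := hv) (huv := huv) _ c.2))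
  calc a * b = (a * b)⁻¹ := (key _).symm
    _ = b * a := by rw [mul_inv_rev, key, key]⟩⟩

variable [Finite G]

theorem fourGroup_not_isCyclic {u v : G} (hu : orderOf u = 2) (hv : orderOf v = 2) (huv : Commute u v)
    (hne : u ≠ v) (hu' : u * u = 1) (hv' : v * v = 1) : ¬ IsCyclic (fourGroup u v hu' hv' huv) := by
  refine not_isCyclic_of_klein (u := ⟨u, Or.inr (Or.inl rfl)⟩) (v := ⟨v, Or.inr (Or.inr (Or.inl rfl))⟩) ?_ ?_ ?_
  · rw [← Subgroup.orderOf_coe]; exact hu
  · rw [← Subgroup.orderOf_coe]; exact hv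
  · intro h; exact hne (congrArg Subtype.val h)

theorem sq_eq_one {u : G} (hu : orderOf u = 2) : u * u = 1 := by
  rw [← pow_two, ← hu]; exact pow_orderOf_eq_one u

/-- if the fixed points of the three involutions of a four group centralize `y`, so does all of `O` -/
theorem klein_cover {O : Subgroup G} [O.Normal] (hO : (Nat.card O).Coprime 2) {u v y : G} (hu : orderOf u = 2)
    (hv : orderOf v = 2) (huv : Commute u v) (hne : u ≠ v)
    (h1 : ∀ x ∈ O, Commute x u → Commute x y) (h2 : ∀ x ∈ O, Commute x v → Commute x y)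
    (h3 : ∀ x ∈ O, Commute x (u * v) → Commute x y) : ∀ x ∈ O, Commute x y := by
  have hu' := sq_eq_one hu
  have hv' := sq_eq_one hv
  set V := fourGroup u v hu' hv' huv with hV
  haveI : IsMulCommutative V := fourGroup_comm
  have hVp : IsPGroup 2 V := fun a => ⟨1, Subtype.ext (by
    rw [pow_one, SubgroupClass.coe_pow, OneMemClass.coe_one]; exact fourGroup_sq (hu := hu') (hv := hv') (huv := huv) _ a.2)⟩
  have hcop : (Nat.card V).Coprime (Nat.card O) := by
    obtain ⟨k, hk⟩ := IsPGroup.iff_card.1 hVp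
    rw [hk]; exact Nat.Coprime.pow_left _ hO.symm
  have hj := Cfsg.Lib.Coprime.centralizerJoin_eq (fourGroup_not_isCyclic hu hv huv hne hu' hv')
    (le_normalizer_of_normal (K := V) (H := O)) hcop
  have hjle : Cfsg.Lib.Coprime.centralizerJoin V O ≤ centralizer ({y} : Set G) := by
    refine iSup₂_le fun a ha => ?_
    obtain ⟨ha', ha1⟩ := ha
    intro x hx0
    obtain ⟨hx, hxa⟩ := mem_inf.1 hx0
    rw [mem_centralizer_singleton_iff] at hxa ⊢
    rcases ha' with rfl | rfl | rfl | rfl
    · exact absurd rfl ha1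
    · exact (h1 x hx hxa).eq
    · exact (h2 x hx hxa).eq
    · exact (h3 x hx hxa).eq
  intro x hx
  exact mem_centralizer_singleton_iff.1 (hjle (hj.ge hx))

/-- commuting involutions of a group of rank one are equal -/
theorem eq_of_rank_one {C : Subgroup G} (hr : Cfsg.PRankLE 2 1 ↥C) {u v : G} (hu : u ∈ C) (hv : v ∈ C)
    (hu2 : orderOf u = 2) (hv2 : orderOf v = 2) (huv : Commute u v) : u = v := by
  by_contra hne
  have hu' := sq_eq_one hu2
  have hv' := sq_eq_one hv2
  set V := fourGroup u v hu' hv' huv with hV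
  haveI : IsMulCommutative V := fourGroup_comm
  have hVC : V ≤ C := by
    rintro a (rfl | rfl | rfl | rfl)
    exacts [one_mem _, hu, hv, mul_mem hu hv]
  have hcard : Nat.card V ≤ 2 ^ 1 := by
    rw [← Nat.card_congr (subgroupOfEquivOfLe hVC).toEquiv]
    exact hr _ inferInstance fun a ha => Subtype.ext (fourGroup_sq (hu := hu') (hv := hv') (huv := huv) a ha)
  have heq : zpowers u = V := eq_of_le_of_card_ge (zpowers_le.2 (Or.inr (Or.inl rfl)))
    (by rw [Nat.card_zpowers, hu2]; exact hcard)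
  refine fourGroup_not_isCyclic hu2 hv2 huv hne hu' hv' ?_
  rw [← hV, ← heq]
  exact isCyclic_zpowers u

theorem unique_in_two_group {C K : Subgroup G} (hr : Cfsg.PRankLE 2 1 ↥C) (hKC : K ≤ C) (hK : IsPGroup 2 K)
    {u v : G} (hu : u ∈ K) (hv : v ∈ K) (hu2 : orderOf u = 2) (hv2 : orderOf v = 2) : u = v := by
  haveI : Fact (Nat.Prime 2) := ⟨Nat.prime_two⟩
  haveI : Nontrivial K := ⟨⟨⟨u, hu⟩, 1, fun h => by
    have h' : u = 1 := congrArg Subtype.val h
    rw [h', orderOf_one] at hu2
    omega⟩⟩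
  haveI := hK.center_nontrivial
  obtain ⟨k, hk0, hk⟩ := (hK.to_subgroup (center K)).nontrivial_iff_card.1 inferInstance
  obtain ⟨z, hz⟩ := exists_prime_orderOf_dvd_card' 2 (show 2 ∣ Nat.card (center K) from hk ▸ dvd_pow_self 2 hk0.ne')
  have hz2 : orderOf ((z : K) : G) = 2 := by rw [Subgroup.orderOf_coe, Subgroup.orderOf_coe]; exact hz
  have key : ∀ w ∈ K, orderOf w = 2 → w = ((z : K) : G) := fun w hw hw2 =>
    eq_of_rank_one hr (hKC hw) (hKC (z : K).2) hw2 hz2
      (congrArg Subtype.val (mem_center_iff.1 z.2 ⟨w, hw⟩))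
  rw [key u hu hu2, key v hv hv2]

/-- the main theorem -/
theorem centralizes_core (P : Subgroup G) (hP : Cfsg.IsStandardSubgroup P)
    (hr : Cfsg.PRankLE 2 1 ↥(centralizer (P : Set G))) (hZ : Odd (Nat.card ↥(center ↥P)))
    (S : Sylow 2 ↥(normalizer (P : Set G))) (t : G) (ht : orderOf t = 2)
    (htS : t ∈ (S : Subgroup ↥(normalizer (P : Set G))).map (normalizer (P : Set G)).subtype)
    (htP : t ∈ centralizer (P : Set G)) (g : G)
    (hgN : ∀ s ∈ (S : Subgroup ↥(normalizer (P : Set G))).map (normalizer (P : Set G)).subtype,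
      g * s * g⁻¹ ∈ (S : Subgroup ↥(normalizer (P : Set G))).map (normalizer (P : Set G)).subtype)
    (hgS : g ∉ (S : Subgroup ↥(normalizer (P : Set G))).map (normalizer (P : Set G)).subtype)
    (hg2 : g ^ 2 ∈ (S : Subgroup ↥(normalizer (P : Set G))).map (normalizer (P : Set G)).subtype)
    (hgt : g * t * g⁻¹ ∈ P ⊔ centralizer (P : Set G)) :
    ⁅P, Cfsg.oddCore G⁆ = ⊥ ∧
      ∀ L : Subgroup G, Cfsg.IsPComponent 2 L → P ≤ L → Cfsg.IsQuasisimple ↥L := by
  classical
  haveI : Fact (Nat.Prime 2) := ⟨Nat.prime_two⟩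
  obtain ⟨hqs, hTE, -, hNN⟩ := hP
  let N := normalizer (P : Set G)
  set S' := (S : Subgroup ↥N).map N.subtype with hS'
  have hPp : ⁅P, P⁆ = P := by
    have h2 := congrArg (Subgroup.map P.subtype) (qs_commutator_top hqs)
    rwa [map_commutator, ← MonoidHom.range_eq_map, range_subtype] at h2
  have hfix : ∀ w : G, w * t = t * w → w ∈ N := by
    intro w hw
    show w ∈ normalizer (P : Set G)
    rw [hNN]
    by_contra hwn
    have hodd := hTE.2 w hwn
    have hmem : t ∈ centralizer (P : Set G) ⊓ (centralizer (P : Set G)).map (MulAut.conj w).toMonoidHom :=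
      ⟨htP, t, htP, by show w * t * w⁻¹ = t; rw [hw, mul_inv_cancel_right]⟩
    have h2 := Subgroup.orderOf_dvd_natCard _ hmem
    rw [ht] at h2
    exact Nat.not_even_iff_odd.2 hodd (even_iff_two_dvd.2 h2)
  have htt := sq_eq_one ht
  have htc : ∀ a ∈ P, Commute a t := fun a ha => mem_centralizer_iff.1 htP a ha
  have hS'p : IsPGroup 2 S' := S.2.map _
  -- `t` is central in `S'`
  have htZ : ∀ s ∈ S', Commute s t := by
    intro s hs
    have hsN : s ∈ N := map_subtype_le _ hs
    have h1 : s * t * s⁻¹ ∈ centralizer (P : Set G) :=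
      (mem_normalizer_iff.1 ((le_of_eq hNN) hsN) t).1 htP
    have h2 : s * t * s⁻¹ = t := unique_in_two_group hr (K := S' ⊓ centralizer (P : Set G)) inf_le_right
      (hS'p.to_le inf_le_left) ⟨S'.mul_mem (S'.mul_mem hs htS) (S'.inv_mem hs), h1⟩ ⟨htS, htP⟩
      (by rw [← ht]; exact (MulAut.conj s).orderOf_eq t) ht
    exact mul_inv_eq_iff_eq_mul.1 h2
  -- `t' = t^g` is not `t`
  have htne : g * t * g⁻¹ ≠ t := by
    intro h
    have hgN' : g ∈ N := hfix g (mul_inv_eq_iff_eq_mul.1 h)
    apply hgS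
    refine ⟨⟨g, hgN'⟩, ?_, rfl⟩
    have hmemS : ∀ z : ↥N, (z : G) ∈ S' ↔ z ∈ (S : Subgroup ↥N) := fun z =>
      ⟨fun ⟨w, hw, hwz⟩ => (Subtype.ext hwz : w = z) ▸ hw, fun hz => ⟨z, hz, rfl⟩⟩
    have hnorm : zpowers (⟨g, hgN'⟩ : ↥N) ≤ normalizer ((S : Subgroup ↥N) : Set ↥N) := by
      rw [zpowers_le]
      refine Cfsg.Lib.ZStarApps.mem_normalizer_of_maps fun z hz => ?_
      exact (hmemS _).1 (hgN _ ((hmemS z).2 hz))
    have hzp : IsPGroup 2 (zpowers (⟨g, hgN'⟩ : ↥N)) := by
      rintro ⟨_, k, rfl⟩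
      obtain ⟨j, hj⟩ := S.2 ⟨⟨g, hgN'⟩ ^ 2, (hmemS _).1 hg2⟩
      refine ⟨j + 1, Subtype.ext ?_⟩
      have h1 : ((⟨g, hgN'⟩ : ↥N) ^ 2) ^ 2 ^ j = 1 := congrArg Subtype.val hj
      show ((⟨g, hgN'⟩ : ↥N) ^ k) ^ 2 ^ (j + 1) = 1
      rw [← zpow_natCast, ← zpow_mul, mul_comm, zpow_mul, zpow_natCast, pow_succ', pow_mul, h1, one_zpow]
    have h2 := S.3 (S.2.to_sup_of_normal_left' hzp hnorm) le_sup_left
    exact h2.le (mem_sup_right (mem_zpowers _))
  set t' := g * t * g⁻¹ with ht'
  have ht'S : t' ∈ S' := hgN t htS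
  have ht'2 : orderOf t' = 2 := by rw [← ht]; exact (MulAut.conj g).orderOf_eq t
  -- `t' ∈ P ⟨t⟩`
  obtain ⟨p, hp, c, hc, hpc⟩ := (Cfsg.Lib.Coprime.mem_sup_of_le_normalizer
    (centralizer_le_normalizer (P : Set G))).mp hgt
  have hpcc : Commute p c := mem_centralizer_iff.1 hc p hp
  have hct : Commute c t := by
    have h : Commute (p⁻¹ * (p * c)) t := ((htc p hp).inv_left).mul_left (hpc ▸ htZ t' ht'S)
    rwa [inv_mul_cancel_left] at h
  set m := Nat.card ↥(center ↥P) with hm
  have hsq : p ^ 2 * c ^ 2 = 1 := by rw [← hpcc.mul_pow, hpc, pow_two]; exact sq_eq_one ht'2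
  have hp2m : p ^ (2 * m) = 1 := by
    have hz : (⟨p, hp⟩ : P) ^ 2 ∈ center P := mem_center_iff.2 fun a => Subtype.ext (by
      show (a : G) * p ^ 2 = p ^ 2 * a
      rw [eq_inv_of_mul_eq_one_left hsq]
      exact mem_centralizer_iff.1 (inv_mem (pow_mem hc 2)) a a.2)
    have h : (⟨_, hz⟩ : ↥(center ↥P)) ^ m = 1 := pow_card_eq_one'
    have h' : (((⟨p, hp⟩ : P) ^ 2) ^ m : P) = 1 := congrArg Subtype.val h
    rw [pow_mul]
    exact congrArg Subtype.val h'
  have hc2m : c ^ (2 * m) = 1 := by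
    rw [pow_mul, eq_inv_of_mul_eq_one_right hsq, inv_pow, ← pow_mul, hp2m, inv_one]
  set p0 := p ^ m with hp0def
  set c0 := c ^ m with hc0def
  have hp0 : p0 ∈ P := pow_mem hp m
  have hc0 : c0 ∈ centralizer (P : Set G) := pow_mem hc m
  have hpc0 : t' = p0 * c0 := by
    obtain ⟨j, hj⟩ := hZ
    rw [hp0def, hc0def, ← hpcc.mul_pow, hpc, (show m = 2 * j + 1 from hj), pow_succ, pow_mul, pow_two,
      sq_eq_one ht'2, one_pow, one_mul]
  have hc0' : c0 = 1 ∨ c0 = t := by
    by_cases h : c0 = 1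
    · exact Or.inl h
    · exact Or.inr (eq_of_rank_one hr hc0 htP (orderOf_eq_prime (by rw [← pow_mul, mul_comm, hc2m]) h) ht
        (hct.pow_left m))
  have hp01 : p0 ≠ 1 := by
    intro h
    rw [h, one_mul] at hpc0
    rcases hc0' with h' | h' <;> rw [h'] at hpc0
    · rw [hpc0, orderOf_one] at ht'2; omega
    · exact htne hpc0
  have hp02 : orderOf p0 = 2 := orderOf_eq_prime (by rw [← pow_mul, mul_comm, hp2m]) hp01
  have hp0C : p0 ∉ centralizer (P : Set G) := by
    intro h
    have hz : (⟨p0, hp0⟩ : P) ∈ center P := mem_center_iff.2 fun a =>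
      Subtype.ext (mem_centralizer_iff.1 h a a.2)
    have h2 := Subgroup.orderOf_dvd_natCard (center P) hz
    rw [← Subgroup.orderOf_coe, hp02] at h2
    exact Nat.not_even_iff_odd.2 hZ (even_iff_two_dvd.2 h2)
  have hp0t : Commute p0 t := htc p0 hp0
  -- the odd core
  set O := Cfsg.pPrimeCore 2 G with hO
  haveI hOn : O.Normal := pPrimeCore_normal' 2
  have hOcop : (Nat.card O).Coprime 2 := coprime_card_pPrimeCore 2
  have hPO : ¬ P ≤ O := by
    intro h
    have h2 := Subgroup.orderOf_dvd_natCard O (h hp0)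
    rw [hp02] at h2
    exact Nat.prime_two.coprime_iff_not_dvd.1 hOcop.symm h2
  have hfixC : ∀ x ∈ O, Commute x t → ∀ a ∈ P, Commute a x := by
    set D := O ⊓ centralizer ({t} : Set G)
    have hDP : D ≤ N := fun w hw => hfix w (mem_centralizer_singleton_iff.1 hw.2)
    have h1 : ⁅P, D⁆ ≤ P ⊓ O := le_inf (le_normalizer_iff_commutator_le_left.mp hDP)
      ((commutator_mono le_rfl inf_le_left).trans (commutator_le_right P O))
    have h2 : ⁅P ⊓ O, P⁆ = ⊥ := by
      rcases qs_subnormal_eq_top_or_le_center hqs (inferInstance : (O.subgroupOf P).Normal).isSubnormal with h | h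
      · exact absurd (subgroupOf_eq_top.1 h) hPO
      · rw [eq_bot_iff, commutator_le]
        intro a ha b hb
        rw [mem_bot, commutatorElement_eq_one_iff_mul_comm]
        exact (congrArg Subtype.val (mem_center_iff.1 (h (mem_subgroupOf.2
          (show ((⟨a, ha.1⟩ : P) : G) ∈ O from ha.2))) ⟨b, hb⟩)).symm
    have h3 := commutator_eq_bot_iff_le_centralizer.1
      (commutator_eq_bot_of_perfect hPp (le_bot_iff.1 ((commutator_mono h1 le_rfl).trans h2.le)))
    intro x hx hxt a ha
    exact (mem_centralizer_iff.1 (h3 ha) x ⟨hx, mem_centralizer_singleton_iff.2 hxt.eq⟩).symm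
  have ht'fix : ∀ x ∈ O, Commute x t' → Commute x t := by
    set D := O ⊓ centralizer ({t} : Set G) with hD
    set D' := O ⊓ centralizer ({t'} : Set G) with hD'
    have hle : D ≤ D' := fun y hy => ⟨hy.1, mem_centralizer_singleton_iff.2 (by
      have hyt : Commute y t := mem_centralizer_singleton_iff.1 hy.2
      have hyp : Commute y p0 := (hfixC y hy.1 hyt p0 hp0).symm
      rw [hpc0]
      rcases hc0' with h | h <;> rw [h]
      · rw [mul_one]; exact hyp.eq
      · exact (hyp.mul_right hyt).eq)⟩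
    have hconj : D' ≤ D.map (MulAut.conj g).toMonoidHom := by
      intro y hy
      refine ⟨g⁻¹ * y * g, ⟨?_, mem_centralizer_singleton_iff.2 ?_⟩, ?_⟩
      · simpa using hOn.conj_mem y hy.1 g⁻¹
      · have h : y * t' = t' * y := mem_centralizer_singleton_iff.1 hy.2
        rw [ht'] at h
        calc g⁻¹ * y * g * t = g⁻¹ * (y * (g * t * g⁻¹)) * g := by group
          _ = g⁻¹ * (g * t * g⁻¹ * y) * g := by rw [h]
          _ = t * (g⁻¹ * y * g) := by group
      · show g * (g⁻¹ * y * g) * g⁻¹ = y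
        group
    have heq : D = D' := eq_of_le_of_card_ge hle
      ((Nat.le_of_dvd Nat.card_pos (card_dvd_of_le hconj)).trans
        (card_map_of_injective (MulAut.conj g).injective).le)
    intro x hx hxt
    have hxD : x ∈ D := by
      rw [heq]; exact ⟨hx, mem_centralizer_singleton_iff.2 hxt.eq⟩
    exact mem_centralizer_singleton_iff.1 hxD.2
  have hne : p0 ≠ t := fun h => hp0C (h ▸ htP)
  -- an element of `p0 C(P)` centralizing `O`
  obtain ⟨z, hz, hzO⟩ : ∃ z ∈ centralizer (P : Set G), ∀ x ∈ O, Commute x (p0 * z) := by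
    rcases hc0' with h | h <;> rw [h] at hpc0
    · rw [mul_one] at hpc0
      refine ⟨t, htP, klein_cover hOcop hp02 ht hp0t hne (fun x hx hxp => ?_) (fun x hx hxt => ?_) fun x _ hxpt => hxpt⟩
      · exact hxp.mul_right (ht'fix x hx (hpc0 ▸ hxp))
      · exact (hfixC x hx hxt p0 hp0).symm.mul_right hxt
    · refine ⟨1, one_mem _, ?_⟩
      rw [mul_one]
      refine klein_cover hOcop hp02 ht hp0t hne (fun x _ hxp => hxp) (fun x hx hxt => ?_) fun x hx hxpt => ?_
      · exact (hfixC x hx hxt p0 hp0).symm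
      · exact (hfixC x hx (ht'fix x hx (hpc0 ▸ hxpt)) p0 hp0).symm
  have hPCO : P ≤ centralizer (O : Set G) := by
    rcases qs_subnormal_eq_top_or_le_center hqs
      (inferInstance : ((centralizer (O : Set G)).subgroupOf P).Normal).isSubnormal with h | h
    · exact subgroupOf_eq_top.1 h
    · exfalso
      apply hp0C
      have hyO : p0 * z ∈ centralizer (O : Set G) := mem_centralizer_iff.2 fun x hx => (hzO x hx).eq
      have hcen : ∀ a ∈ P, ⁅a, p0⁆ ∈ centralizer (O : Set G) := by
        intro a ha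
        have haz : z * a⁻¹ * z⁻¹ = a⁻¹ := by
          rw [← mem_centralizer_iff.1 hz a⁻¹ (inv_mem ha), mul_inv_cancel_right]
        have e : ⁅a, p0⁆ = a * (p0 * z) * a⁻¹ * (p0 * z)⁻¹ := by
          rw [commutatorElement_def, mul_inv_rev,
            show a * (p0 * z) * a⁻¹ * (z⁻¹ * p0⁻¹) = a * p0 * (z * a⁻¹ * z⁻¹) * p0⁻¹ by group, haz]
        rw [e]
        exact mul_mem ((inferInstance : (centralizer (O : Set G)).Normal).conj_mem _ hyO a) (inv_mem hyO)
      have h1 : ⁅⁅P, zpowers p0⁆, P⁆ = ⊥ := by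
        have hle : ⁅P, zpowers p0⁆ ≤ P ⊓ centralizer (P : Set G) := by
          rw [commutator_le]
          rintro a ha _ ⟨k, rfl⟩
          refine ⟨by
            rw [commutatorElement_def]
            exact P.mul_mem (P.mul_mem (P.mul_mem ha (P.zpow_mem hp0 k)) (P.inv_mem ha)) (P.inv_mem (P.zpow_mem hp0 k)), ?_⟩
          have hP' : ⁅a, p0 ^ k⁆ ∈ centralizer (O : Set G) := by
            rcases Int.even_or_odd' k with ⟨j, rfl | rfl⟩
            · rw [zpow_mul, show p0 ^ (2 : ℤ) = 1 by rw [zpow_two]; exact sq_eq_one hp02, one_zpow,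
                commutatorElement_one_right]
              exact one_mem _
            · rw [zpow_add, zpow_mul, show p0 ^ (2 : ℤ) = 1 by rw [zpow_two]; exact sq_eq_one hp02, one_zpow,
                one_mul, zpow_one]
              exact hcen a ha
          have hmemP : ⁅a, p0 ^ k⁆ ∈ P := by
            rw [commutatorElement_def]
            exact mul_mem (mul_mem (mul_mem ha (zpow_mem hp0 k)) (inv_mem ha)) (inv_mem (zpow_mem hp0 k))
          exact mem_centralizer_iff.2 fun b hb =>
            congrArg Subtype.val (mem_center_iff.1 (h (mem_subgroupOf.2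
              (show ((⟨_, hmemP⟩ : P) : G) ∈ centralizer (O : Set G) from hP'))) ⟨b, hb⟩)
        rw [commutator_eq_bot_iff_le_centralizer]
        exact hle.trans inf_le_right
      have h2 := commutator_eq_bot_of_perfect hPp h1
      rw [commutator_comm, commutator_eq_bot_iff_le_centralizer] at h2
      exact h2 (mem_zpowers p0)
  refine ⟨commutator_eq_bot_iff_le_centralizer.2 hPCO, fun L hL hPL => ?_⟩
  haveI : (centralizer (O : Set G)).Normal := inferInstance
  rcases pcomp_le_or_commute hL (Normal.isSubnormal (inferInstance : (centralizer (O : Set G)).Normal)) with h | h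
  · exact ((pcomp_isComponent_iff hL).2 (commutator_eq_bot_iff_le_centralizer.2 h)).2
  · exfalso
    apply hPO
    rw [← hPp]
    exact (commutator_mono hPL hPCO).trans h

end Cfsg.Lib.StdSemisimple
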